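import Cfsg.Agent.Lib.Char.InvariantCover
import Cfsg.Agent.Lib.Char.Clifford

/-!
Degree bounds and characters of subgroups: tools for Isaacs' abelian subgroup theorem.
-/

set_option autoImplicit false
set_option linter.unusedSectionVars false
set_option linter.style.haveILetI false

namespace Cfsg.Agent.Block.AbIndex

open scoped ComplexConjugate
open Cfsg Cfsg.Agent.Char

universe u

/-- All irreducible character degrees are at most `n`. -/
def Bound (G : Type u) [Group G] (n : ℕ) : Prop :=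
  ∀ χ : G → ℂ, IsIrrCharacter G χ → ∀ d : ℕ, χ 1 = d → d ≤ n

variable {G : Type u} [Group G] [Finite G] {n : ℕ}

theorem exists_over (H : Subgroup G) {ψ : H → ℂ} (hψ : IsIrrCharacter H ψ) [Fintype H] :
    ∃ χ : G → ℂ, IsIrrCharacter G χ ∧ classInner (fun h : H => χ h) ψ ≠ 0 := by
  haveI := Fintype.ofFinite G
  obtain ⟨χ, hχ⟩ := IsChar.exists_constituent' (isCharacter_indFun H (IsIrr.isCharacter hψ)) (by
    rw [indFun_one_eq]
    exact mul_ne_zero (Nat.cast_ne_zero.mpr Subgroup.index_ne_zero_of_finite)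
      (IsIrr.one_ne_zero hψ))
  refine ⟨χ, χ.2, fun h => hχ ?_⟩
  rw [classInner_indFun H ψ (IsIrr.classFun χ.2), ← classInner_conj_symm, h, map_zero]

theorem Bound.sub (hb : Bound G n) (H : Subgroup G) : Bound H n := by
  intro ψ hψ d hd
  haveI := Fintype.ofFinite H
  obtain ⟨χ, hχ, hne⟩ := exists_over H hψ
  obtain ⟨m, -, hm⟩ := IsIrr.one_eq_pos hχ
  exact (degree_le_of_constituent (IsChar.res (IsIrr.isCharacter hχ) H) hψ hne (m := m)
    (by simpa using hm) hd).trans (hb χ hχ m hm)

theorem Bound.pred_or (hb : Bound G n) :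
    Bound G (n - 1) ∨ ∃ χ : G → ℂ, IsIrrCharacter G χ ∧ χ 1 = n := by
  by_cases h : ∃ χ : G → ℂ, IsIrrCharacter G χ ∧ χ 1 = n
  · exact .inr h
  refine .inl fun χ hχ d hd => ?_
  have h1 := hb χ hχ d hd
  have h2 : d ≠ n := fun e => h ⟨χ, hχ, e ▸ hd⟩
  omega

/-- A character of top degree of a subgroup is the restriction of every constituent above it. -/
theorem res_eq_of_top (hb : Bound G n) (H : Subgroup G) [Fintype H] {ψ : H → ℂ}
    (hψ : IsIrrCharacter H ψ) (hn : ψ 1 = n) {χ : G → ℂ} (hχ : IsIrrCharacter G χ)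
    (hne : classInner (fun h : H => χ h) ψ ≠ 0) :
    χ 1 = n ∧ (fun h : H => χ h) = ψ := by
  obtain ⟨m, -, hm⟩ := IsIrr.one_eq_pos hχ
  have h1 := hb χ hχ m hm
  have h2 := degree_le_of_constituent (IsChar.res (IsIrr.isCharacter hχ) H) hψ hne (m := m)
    (by simpa using hm) hn
  have e : m = n := by omega
  subst e
  exact ⟨hm, eq_of_constituent_degree (IsChar.res (IsIrr.isCharacter hχ) H) hψ hne
    (by rw [hn]; simpa using hm)⟩

theorem exists_ext (hb : Bound G n) (H : Subgroup G) {ψ : H → ℂ}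
    (hψ : IsIrrCharacter H ψ) (hn : ψ 1 = n) :
    ∃ χ : G → ℂ, IsIrrCharacter G χ ∧ χ 1 = n ∧ ∀ h : H, χ h = ψ h := by
  haveI := Fintype.ofFinite H
  obtain ⟨χ, hχ, hne⟩ := exists_over H hψ
  obtain ⟨h1, h2⟩ := res_eq_of_top hb H hψ hn hχ hne
  exact ⟨χ, hχ, h1, fun h => congrFun h2 h⟩

/-- A character of top degree of a subgroup vanishes outside the core. -/
theorem vanish_off_core (hb : Bound G n) (H : Subgroup G) {ψ : H → ℂ}
    (hψ : IsIrrCharacter H ψ) (hn : ψ 1 = n) (h : H) (hh : (h : G) ∉ H.normalCore) : ψ h = 0 := by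
  classical
  haveI := Fintype.ofFinite H
  haveI := Fintype.ofFinite G
  set I := indFun H ψ with hI
  obtain ⟨a, ha, hdec⟩ := IsChar.exists_decomp_inner (isCharacter_indFun H (IsIrr.isCharacter hψ))
  have hres : ∀ φ : IrrCharacter G, a φ ≠ 0 → (φ : G → ℂ) 1 = n ∧
      (fun x : H => (φ : G → ℂ) x) = ψ := by
    intro φ hφ
    refine res_eq_of_top hb H hψ hn φ.2 fun h0 => hφ ?_
    have := ha φ
    rw [classInner_indFun H ψ (IsIrr.classFun φ.2), ← classInner_conj_symm, h0, map_zero] at this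
    exact_mod_cast this.symm
  have hn0 : (n : ℂ) ≠ 0 := hn ▸ IsIrr.one_ne_zero hψ
  have hsum : (∑ φ : IrrCharacter G, (a φ : ℂ)) = (H.index : ℂ) := by
    refine mul_right_cancel₀ hn0 ?_
    rw [← hn, ← indFun_one_eq H ψ, hdec, sum_irr_apply, Finset.sum_mul]
    refine Finset.sum_congr rfl fun φ _ => ?_
    by_cases h0 : a φ = 0
    · simp [h0]
    · rw [(hres φ h0).1, hn]
  have hI1 : I h = (H.index : ℂ) * ψ h := by
    rw [hI, hdec, sum_irr_apply, ← hsum, Finset.sum_mul]
    refine Finset.sum_congr rfl fun φ _ => ?_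
    by_cases h0 : a φ = 0
    · simp [h0]
    · rw [← congrFun (hres φ h0).2 h]
  obtain ⟨χ, hχ, -, hχr⟩ := exists_ext hb H hψ hn
  set S := Finset.univ.filter fun x : G => x⁻¹ * (h : G) * x ∈ H with hS
  have hI2 : I h = (Nat.card H : ℂ)⁻¹ * ((S.card : ℂ) * ψ h) := by
    rw [hI]
    simp only [indFun]
    congr 1
    rw [hS, ← nsmul_eq_mul, ← Finset.sum_const, Finset.sum_filter]
    refine Finset.sum_congr rfl fun x _ => ?_
    by_cases hx : x⁻¹ * (h : G) * x ∈ H
    · rw [if_pos hx, extendByZero_of_mem ψ hx, ← hχr ⟨_, hx⟩, ← hχr h]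
      exact IsClass.eq_of_isConj (IsIrr.classFun hχ) (isConj_iff.mpr ⟨x, by group⟩)
    · rw [if_neg hx, extendByZero_not_mem ψ hx]
  by_contra h0
  have e : (S.card : ℂ) = (Nat.card G : ℂ) := by
    have hc : (Nat.card H : ℂ) ≠ 0 := Nat.cast_ne_zero.mpr Nat.card_pos.ne'
    have e1 : (H.index : ℂ) * (Nat.card H : ℂ) = (Nat.card G : ℂ) := by
      exact_mod_cast H.index_mul_card
    have e2 : (H.index : ℂ) = (Nat.card H : ℂ)⁻¹ * (S.card : ℂ) :=
      mul_right_cancel₀ h0 (by rw [mul_assoc, ← hI1, hI2])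
    rw [← e1, e2]
    field_simp
  have e' : S = Finset.univ := by
    refine Finset.eq_univ_of_card S ?_
    rw [← Nat.card_eq_fintype_card]
    exact_mod_cast e
  refine hh fun b => ?_
  have := e' ▸ Finset.mem_univ b⁻¹
  simpa [hS] using this

/-- An irreducible character vanishing off a normal subgroup bounds the index by its square. -/
theorem relIndex_dvd_sq (H N : Subgroup G) [N.Normal] {ψ : H → ℂ}
    (hψ : IsIrrCharacter H ψ) (hn : ψ 1 = n) (hv : ∀ h : H, (h : G) ∉ N → ψ h = 0) :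
    N.relIndex H ∣ n ^ 2 := by
  classical
  haveI := Fintype.ofFinite H
  set N' := N.subgroupOf H with hN'
  haveI : N'.Normal := Subgroup.normal_subgroupOf
  haveI := Fintype.ofFinite N'
  have hr : IsCharacter N' (fun x : N' => ψ x) := IsChar.res (IsIrr.isCharacter hψ) N'
  have hr1 : (fun x : N' => ψ x) 1 = (n : ℂ) := by simpa using hn
  have hn0 : (n : ℂ) ≠ 0 := hn ▸ IsIrr.one_ne_zero hψ
  obtain ⟨θ, hθc⟩ := IsChar.exists_constituent' hr (hr1.trans_ne hn0)
  obtain ⟨e, he⟩ := IsChar.classInner_nat hr (IsIrr.isCharacter θ.2)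
  obtain ⟨t, -, ht⟩ := IsIrr.one_eq_pos θ.2
  have hcl := clifford N' hψ θ.2 hθc
  have hnorm : classInner (fun x : N' => ψ x) (fun x : N' => ψ x) = (N'.index : ℂ) := by
    have h1 := classInner_self_irr hψ
    have h2 : ∑ g : H, ψ g * conj (ψ g) = ∑ x : N', ψ x * conj (ψ x) := by
      rw [← sum_extendByZero_mul N' (fun x : N' => ψ x) (fun g => conj (ψ g))]
      refine Finset.sum_congr rfl fun g _ => ?_
      by_cases hg : g ∈ N'
      · rw [extendByZero_of_mem _ hg]
      · rw [extendByZero_not_mem _ hg, hv g (fun hm => hg (Subgroup.mem_subgroupOf.mpr hm))]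
    simp only [classInner] at h1 ⊢
    rw [h2] at h1
    have e2 : (N'.index : ℂ) * (Nat.card N' : ℂ) = (Nat.card H : ℂ) := by
      exact_mod_cast N'.index_mul_card
    rw [← e2, mul_inv, mul_assoc] at h1
    exact (eq_inv_of_mul_eq_one_right h1).trans (inv_inv _)
  have hnorm2 : classInner (fun x : N' => ψ x) (fun x : N' => ψ x) =
      (e : ℂ) * ((inertia N' (θ : N' → ℂ)).index * e) := by
    conv_lhs => arg 1; rw [hcl]
    rw [classInner_smul_left, classInner_sum_left, he]
    congr 1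
    rw [Finset.sum_congr rfl fun φ hφ => (show classInner φ (fun x : N' => ψ x) = (e : ℂ) by
      obtain ⟨g, rfl⟩ := (mem_conjOrbit N').mp hφ
      rw [← classInner_conj_symm, classInner_res_conjN N' (IsIrr.classFun hψ), he,
        Complex.conj_natCast]), Finset.sum_const, card_conjOrbit, nsmul_eq_mul]
  have hdeg := clifford_one N' hψ θ.2 hθc
  rw [hn, he, ht] at hdeg
  set s := (inertia N' (θ : N' → ℂ)).index
  refine ⟨t ^ 2 * s, ?_⟩
  have : N'.index = e * (s * e) := by exact_mod_cast hnorm.symm.trans hnorm2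
  have hd : n = e * s * t := by exact_mod_cast hdeg
  rw [Subgroup.relIndex, ← hN', this, hd]
  ring

/-- Products of a character irreducible on a normal subgroup with one of constant absolute value
on its cosets. -/
theorem mul_irr (M : Subgroup G) [M.Normal] {χ β : G → ℂ} (hχ : IsIrrCharacter G χ)
    (hβ : IsIrrCharacter G β) (hres : IsIrrCharacter M (fun m : M => χ m))
    (hinv : ∀ m ∈ M, ∀ g : G, β (m * g) * conj (β (m * g)) = β g * conj (β g)) :
    IsIrrCharacter G (χ * β) := by
  classical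
  haveI := Fintype.ofFinite G
  haveI := Fintype.ofFinite M
  refine IsChar.irr_of_norm_one (IsChar.mul (IsIrr.isCharacter hχ) (IsIrr.isCharacter hβ)) ?_
  set η : G → ℂ := β * fun g => conj (β g) with hη
  have hav : avgN M η = η := by
    funext g
    simp only [avgN, hη, Pi.mul_apply]
    rw [Finset.sum_congr rfl fun (m : M) _ => hinv m m.2 g, Finset.sum_const, Finset.card_univ,
      ← Nat.card_eq_fintype_card, nsmul_eq_mul, ← mul_assoc,
      inv_mul_cancel₀ (Nat.cast_ne_zero.mpr Nat.card_pos.ne'), one_mul]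
  have e1 : classInner (χ * β) (χ * β) = classInner (χ * fun g => conj (χ g)) η := by
    simp only [classInner, hη, Pi.mul_apply, map_mul, Complex.conj_conj]
    congr 1
    exact Finset.sum_congr rfl fun g _ => by ring
  have e3 : classInner (fun _ : G => (1 : ℂ)) η = classInner β β := by
    simp only [classInner, hη, Pi.mul_apply, map_mul, Complex.conj_conj]
    congr 1
    exact Finset.sum_congr rfl fun g _ => by ring
  rw [e1, ← hav, ← classInner_avgN, InvCover.avgN_absSq M hχ hres, e3, classInner_self_irr hβ]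

end Cfsg.Agent.Block.AbIndex
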