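import Cfsg.Agent.Lib.Block.AbIndex.Char
import Cfsg.Agent.Lib.Char.Quotient
import Mathlib.GroupTheory.Commutator.Basic

/-!
A maximal non-abelian quotient and the subgroups of small index it yields.
-/

set_option autoImplicit false
set_option linter.unusedSectionVars false
set_option linter.style.haveILetI false

namespace Cfsg.Agent.Block.AbIndex

open scoped ComplexConjugate commutatorElement
open Cfsg Cfsg.Agent.Char

universe u

variable {G : Type u} [Group G] [Finite G]

theorem comm_of_bound_one (hb : Bound G 1) (x y : G) : x * y = y * x := by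
  haveI := Fintype.ofFinite G
  have h : IsConj (1 : G) (x * y * x⁻¹ * y⁻¹) := (isConj_iff_irr _ _).mpr fun χ => by
    obtain ⟨d, hd0, hd⟩ := IsIrr.one_eq_pos χ.2
    have := hb χ χ.2 d hd
    obtain ⟨l, hl⟩ := linearHom_of_isCharacter (IsIrr.isCharacter χ.2)
      (by rw [hd, show d = 1 by omega, Nat.cast_one])
    rw [hl]
    simp
  have := isConj_one_right.mp h
  calc x * y = x * y * x⁻¹ * y⁻¹ * (y * x) := by group
    _ = y * x := by rw [this, one_mul]

/-- Every non-trivial normal subgroup contains the derived subgroup, which is non-trivial. -/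
structure MinNonab (Q : Type u) [Group Q] : Prop where
  nc : ¬ ∀ a b : Q, a * b = b * a
  le : ∀ M : Subgroup Q, M.Normal → M ≠ ⊥ → commutator Q ≤ M

theorem exists_minNonab (hG : ¬ ∀ a b : G, a * b = b * a) :
    ∃ (N : Subgroup G) (_ : N.Normal), MinNonab (G ⧸ N) := by
  classical
  let S : Set (Subgroup G) := {N | N.Normal ∧ ¬ commutator G ≤ N}
  have hS : S.Nonempty := ⟨⊥, inferInstance, fun h => hG fun a b => by
    have hm : ⁅a, b⁆ ∈ commutator G :=
      Subgroup.commutator_mem_commutator (Subgroup.mem_top a) (Subgroup.mem_top b)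
    exact commutatorElement_eq_one_iff_mul_comm.mp (Subgroup.mem_bot.mp (h hm))⟩
  obtain ⟨N, hN⟩ := S.toFinite.exists_maximal hS
  obtain ⟨⟨hNn, hNc⟩, hmax⟩ := hN
  refine ⟨N, hNn, ⟨fun hc => hNc ?_, fun M hM hM1 => ?_⟩⟩
  · rw [commutator_def, Subgroup.commutator_le]
    intro a _ b _
    rw [← QuotientGroup.eq_one_iff]
    have := hc a b
    simp only [commutatorElement_def, QuotientGroup.mk_mul, QuotientGroup.mk_inv]
    rw [this]; group
  · by_contra hle
    have hp : (M.comap (QuotientGroup.mk' N)) ∈ S := ⟨hM.comap _, fun h => hle ?_⟩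
    · have h1 : N ≤ M.comap (QuotientGroup.mk' N) := fun x hx => by
        rw [Subgroup.mem_comap, QuotientGroup.mk'_apply, (QuotientGroup.eq_one_iff x).mpr hx]
        exact one_mem M
      refine hM1 ((Subgroup.eq_bot_iff_forall M).mpr fun q hq => ?_)
      obtain ⟨x, rfl⟩ := QuotientGroup.mk_surjective q
      exact (QuotientGroup.eq_one_iff x).mpr (hmax hp h1 (Subgroup.mem_comap.mpr hq))
    · rw [commutator_def, Subgroup.commutator_le]
      rintro a - b -
      obtain ⟨a, rfl⟩ := QuotientGroup.mk_surjective a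
      obtain ⟨b, rfl⟩ := QuotientGroup.mk_surjective b
      exact h (Subgroup.commutator_mem_commutator (Subgroup.mem_top a) (Subgroup.mem_top b))

namespace MinNonab

variable {Q : Type u} [Group Q] [Finite Q]

theorem derived_ne_bot (hQ : MinNonab Q) : commutator Q ≠ ⊥ := fun h => hQ.nc fun a b => by
  have hm : ⁅a, b⁆ ∈ commutator Q :=
    Subgroup.commutator_mem_commutator (Subgroup.mem_top a) (Subgroup.mem_top b)
  exact commutatorElement_eq_one_iff_mul_comm.mp (Subgroup.mem_bot.mp (h ▸ hm))

/-- A faithful non-linear irreducible character. -/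
theorem exists_faithful (hQ : MinNonab Q) :
    ∃ β : Q → ℂ, IsIrrCharacter Q β ∧ ∃ f : ℕ, 2 ≤ f ∧ β 1 = f ∧ ∀ x : Q, β x = β 1 → x = 1 := by
  have hb : ¬ Bound Q 1 := fun h => hQ.nc (comm_of_bound_one h)
  simp only [Bound] at hb
  push Not at hb
  obtain ⟨β, hβ, f, hf, hf2⟩ := hb
  refine ⟨β, hβ, f, hf2, hf, fun x hx => ?_⟩
  by_contra hx1
  set K := charKer (IsIrr.isCharacter hβ) with hK
  haveI : K.Normal := charKer_normal _
  have hK1 : K ≠ ⊥ := fun h => hx1 (Subgroup.mem_bot.mp (h ▸ (mem_charKer _).mpr hx))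
  have hle := hQ.le K inferInstance hK1
  obtain ⟨χ, hχ, e⟩ := IsIrr.exists_factor_quotient hβ K fun k hk => (mem_charKer _).mp hk
  have hcomm : ∀ a b : Q ⧸ K, a * b = b * a := by
    intro a b
    obtain ⟨a, rfl⟩ := QuotientGroup.mk_surjective a
    obtain ⟨b, rfl⟩ := QuotientGroup.mk_surjective b
    rw [← QuotientGroup.mk_mul, ← QuotientGroup.mk_mul, QuotientGroup.eq]
    refine hle ?_
    have hm : ⁅b⁻¹, a⁻¹⁆ ∈ commutator Q :=
      Subgroup.commutator_mem_commutator (Subgroup.mem_top _) (Subgroup.mem_top _)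
    simpa [commutatorElement_def, mul_assoc] using hm
  have h1 := IsIrr.one_of_comm hcomm hχ
  have : β 1 = 1 := (e 1).symm.trans h1
  rw [hf] at this
  have : f = 1 := by exact_mod_cast this
  omega

end MinNonab

end Cfsg.Agent.Block.AbIndex
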