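import Cfsg.Agent.Lib.Block.AbIndex.Quot
import Mathlib.GroupTheory.ClassEquation
import Mathlib.GroupTheory.Perm.Cycle.Type

/-!
Shape of a group all of whose non-trivial normal subgroups contain the derived subgroup.
-/

set_option autoImplicit false
set_option linter.unusedSectionVars false
set_option linter.style.haveILetI false

namespace Cfsg.Agent.Block.AbIndex

open scoped ComplexConjugate commutatorElement
open Cfsg Cfsg.Agent.Char

universe u

variable {Q : Type u} [Group Q] [Finite Q]

/-- The cosets of a centraliser inject into the conjugates. -/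
theorem index_centralizer_le {α : Type u} [Finite α] (x : Q) (φ : Q → α)
    (hφ : ∀ g h : Q, φ g = φ h → g * x * g⁻¹ = h * x * h⁻¹) :
    (Subgroup.centralizer ({x} : Set Q)).index ≤ Nat.card α := by
  refine Nat.card_le_card_of_injective (fun q => φ q.out) fun q r h => ?_
  rw [← QuotientGroup.out_eq' q, ← QuotientGroup.out_eq' r, QuotientGroup.eq,
    Subgroup.mem_centralizer_singleton_iff]
  have e := hφ _ _ h
  have e2 := congrArg (fun z => (q.out)⁻¹ * z * r.out) e
  simp only [mul_assoc, inv_mul_cancel_left, inv_mul_cancel, mul_one] at e2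
  rw [mul_assoc]
  exact e2.symm

theorem exists_small_class [Nontrivial Q] {n : ℕ} (hb : Bound Q n) :
    ∃ x : Q, x ≠ 1 ∧ (Subgroup.centralizer ({x} : Set Q)).index ≤ n ^ 2 := by
  classical
  haveI := Fintype.ofFinite Q
  by_contra hc
  push Not at hc
  choose d hd0 hd using fun χ : IrrCharacter Q => IsIrr.one_eq_pos χ.2
  have h1 : (∑ χ : IrrCharacter Q, d χ ^ 2) = Nat.card Q := by
    have : ((∑ χ : IrrCharacter Q, d χ ^ 2 : ℕ) : ℂ) = (Nat.card Q : ℂ) := by
      rw [← sum_degree_sq, Nat.cast_sum]
      exact Finset.sum_congr rfl fun χ _ => by rw [hd χ, Nat.cast_pow]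
    exact_mod_cast this
  set one : IrrCharacter Q := ⟨fun _ => 1, isIrr_one⟩ with hone
  have h2 : Nat.card Q ≤ 1 + (Nat.card (ConjClasses Q) - 1) * n ^ 2 := by
    rw [← h1, ← Finset.add_sum_erase _ _ (Finset.mem_univ one)]
    refine Nat.add_le_add ?_ ?_
    · have : (d one : ℂ) = 1 := (hd one).symm
      rw [show d one = 1 by exact_mod_cast this]
      norm_num
    · refine (Finset.sum_le_card_nsmul _ _ (n ^ 2) fun (χ : IrrCharacter Q) _ =>
        Nat.pow_le_pow_left (hb χ χ.2 _ (hd χ)) 2).trans (le_of_eq ?_)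
      rw [Finset.card_erase_of_mem (Finset.mem_univ _), Finset.card_univ,
        ← Nat.card_eq_fintype_card, card_irrCharacter, smul_eq_mul]
  have h3 : 1 + (Nat.card (ConjClasses Q) - 1) * (n ^ 2 + 1) ≤ Nat.card Q := by
    have := sum_conjClasses_card_eq_card Q
    rw [Nat.card_eq_fintype_card (α := Q), ← this,
      ← Finset.add_sum_erase _ _ (Finset.mem_univ (ConjClasses.mk (1 : Q)))]
    refine Nat.add_le_add ?_ ?_
    · exact Finset.card_pos.mpr ⟨1, by simp [ConjClasses.mem_carrier_mk]⟩
    · refine le_trans (le_of_eq ?_) (Finset.card_nsmul_le_sum _ _ (n ^ 2 + 1) fun C hC => ?_)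
      · rw [Finset.card_erase_of_mem (Finset.mem_univ _), Finset.card_univ,
          ← Nat.card_eq_fintype_card, smul_eq_mul]
      · obtain ⟨g, rfl⟩ := C.exists_rep
        have hg1 : g ≠ 1 := fun h => (Finset.mem_erase.mp hC).1 (by rw [h])
        refine le_trans (Nat.succ_le_of_lt (hc g hg1)) ?_
        rw [Set.toFinset_card, ← Nat.card_eq_fintype_card]
        exact index_centralizer_le g
          (fun h => (⟨h * g * h⁻¹, ConjClasses.mem_carrier_iff_mk_eq.mpr
            (ConjClasses.mk_eq_mk_iff_isConj.mpr (isConj_iff.mpr ⟨h⁻¹, by group⟩))⟩ :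
            (ConjClasses.mk g).carrier))
          fun a b hab => congrArg Subtype.val hab
  have h4 : 1 < Nat.card Q := Finite.one_lt_card
  rw [Nat.mul_add, mul_one] at h3
  rcases Nat.eq_zero_or_pos (Nat.card (ConjClasses Q) - 1) with h0 | h0
  · rw [h0] at h2; omega
  · omega

namespace MinNonab

theorem center_eq_bot (hQ : MinNonab Q) (hA : ¬ commutator Q ≤ Subgroup.center Q) :
    Subgroup.center Q = ⊥ :=
  by_contra fun h => hA (hQ.le _ inferInstance h)

/-- An element not centralising the derived subgroup fixes none of its non-trivial elements. -/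
theorem fixed_eq_one (hQ : MinNonab Q) (hab : ∀ a ∈ commutator Q, ∀ b ∈ commutator Q, a * b = b * a)
    {y : Q} (hy : y ∉ Subgroup.centralizer (commutator Q : Set Q)) {m : Q}
    (hm : m ∈ commutator Q) (hmy : m * y = y * m) : m = 1 := by
  by_contra hm1
  set F := commutator Q ⊓ Subgroup.centralizer ({y} : Set Q) with hF
  have hFn : F.Normal := ⟨fun z hz g => by
    obtain ⟨hz1, hz2⟩ := Subgroup.mem_inf.mp hz
    refine Subgroup.mem_inf.mpr ⟨Subgroup.Normal.conj_mem inferInstance z hz1 g,
      Subgroup.mem_centralizer_singleton_iff.mpr ?_⟩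
    have hc : ⁅y⁻¹, g⁻¹⁆ ∈ commutator Q :=
      Subgroup.commutator_mem_commutator (Subgroup.mem_top _) (Subgroup.mem_top _)
    have h1 := hab z hz1 _ hc
    have h2 : z * y = y * z := Subgroup.mem_centralizer_singleton_iff.mp hz2
    calc g * z * g⁻¹ * y = g * (z * y * ⁅y⁻¹, g⁻¹⁆) * g⁻¹ := by
          rw [commutatorElement_def]; group
      _ = g * (y * (⁅y⁻¹, g⁻¹⁆ * z)) * g⁻¹ := by rw [h2, mul_assoc y, h1]
      _ = y * (g * z * g⁻¹) := by rw [commutatorElement_def]; group⟩
  have hF1 : F ≠ ⊥ := fun h => hm1 (Subgroup.mem_bot.mp (h ▸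
    Subgroup.mem_inf.mpr ⟨hm, Subgroup.mem_centralizer_singleton_iff.mpr hmy⟩))
  refine hy (Subgroup.mem_centralizer_iff.mpr fun a ha => ?_)
  exact Subgroup.mem_centralizer_singleton_iff.mp (Subgroup.mem_inf.mp (hQ.le F hFn hF1 ha)).2

/-- In the abelian case the derived subgroup has a complement of coprime order with trivial core. -/
theorem exists_complement (hQ : MinNonab Q) (hA : ¬ commutator Q ≤ Subgroup.center Q)
    (hab : ∀ a ∈ commutator Q, ∀ b ∈ commutator Q, a * b = b * a) :
    ∃ X : Subgroup Q, X.normalCore = ⊥ ∧ X.index = Nat.card (commutator Q) ∧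
      (Nat.card X).Coprime (Nat.card (commutator Q)) ∧
      Subgroup.centralizer (commutator Q : Set Q) ≤ commutator Q := by
  obtain ⟨x, hx⟩ : ∃ x, x ∉ Subgroup.centralizer (commutator Q : Set Q) := by
    by_contra! hc
    exact hA fun a ha => Subgroup.mem_center_iff.mpr fun g =>
      ((Subgroup.mem_centralizer_iff.mp (hc g)) a ha).symm
  set X := Subgroup.centralizer ({x} : Set Q) with hX
  have hinf : ∀ a ∈ commutator Q, a ∈ X → a = 1 := fun a ha haX =>
    hQ.fixed_eq_one hab hx ha (Subgroup.mem_centralizer_singleton_iff.mp haX)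
  have hinj : Function.Injective (fun a : commutator Q => ((a : Q) : Q ⧸ X)) := by
    intro a b hab'
    have h : (a : Q)⁻¹ * b ∈ X := QuotientGroup.eq.mp hab'
    exact Subtype.ext (inv_mul_eq_one.mp (hinf _ ((commutator Q).mul_mem
      ((commutator Q).inv_mem a.2) b.2) h))
  have hle : X.index ≤ Nat.card (commutator Q) :=
    index_centralizer_le x (fun g => (⟨⁅g, x⁆, Subgroup.commutator_mem_commutator
      (Subgroup.mem_top _) (Subgroup.mem_top _)⟩ : commutator Q)) fun a b h => by
        have := congrArg Subtype.val h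
        simpa [commutatorElement_def] using this
  have hidx : X.index = Nat.card (commutator Q) :=
    le_antisymm hle (Nat.card_le_card_of_injective _ hinj)
  have hsur : Function.Surjective (fun a : commutator Q => ((a : Q) : Q ⧸ X)) :=
    (Function.Injective.bijective_of_nat_card_le hinj (le_of_eq hidx)).2
  have hcomm : ∀ a ∈ X, ∀ b ∈ X, a * b = b * a := fun a ha b hb =>
    commutatorElement_eq_one_iff_mul_comm.mp (hinf _
      (Subgroup.commutator_mem_commutator (Subgroup.mem_top _) (Subgroup.mem_top _)) (by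
        rw [commutatorElement_def]
        exact X.mul_mem (X.mul_mem (X.mul_mem ha hb) (X.inv_mem ha)) (X.inv_mem hb)))
  have hfree : ∀ y ∈ X, y ≠ 1 → y ∉ Subgroup.centralizer (commutator Q : Set Q) := by
    intro y hy hy1 hyC
    refine hy1 (Subgroup.mem_bot.mp ?_)
    rw [← hQ.center_eq_bot hA, Subgroup.mem_center_iff]
    intro g
    obtain ⟨a, ha⟩ := hsur (g : Q ⧸ X)
    have h : (a : Q)⁻¹ * g ∈ X := QuotientGroup.eq.mp ha
    have h1 : (a : Q) * y = y * a := Subgroup.mem_centralizer_iff.mp hyC a a.2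
    have h2 := hcomm _ h y hy
    calc g * y = (a : Q) * ((a : Q)⁻¹ * g * y) := by group
      _ = (a : Q) * y * ((a : Q)⁻¹ * g) := by rw [h2, mul_assoc]
      _ = y * g := by rw [h1]; group
  refine ⟨X, ?_, hidx, ?_, fun z hz => ?_⟩
  rotate_left 2
  · obtain ⟨a, ha⟩ := hsur (z : Q ⧸ X)
    have h : (a : Q)⁻¹ * z ∈ X := QuotientGroup.eq.mp ha
    have hC : (a : Q)⁻¹ * z ∈ Subgroup.centralizer (commutator Q : Set Q) :=
      mul_mem (inv_mem (Subgroup.mem_centralizer_iff.mpr fun b hb => hab b hb a a.2)) hz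
    by_contra hzM
    refine hfree _ h (fun he => hzM ?_) hC
    rw [← inv_mul_eq_one.mp he]
    exact a.2
  · by_contra h
    refine hQ.derived_ne_bot ((Subgroup.eq_bot_iff_forall _).mpr fun a ha => hinf a ha ?_)
    exact Subgroup.normalCore_le X (hQ.le _ X.normalCore_normal h ha)
  · refine Nat.coprime_of_dvd fun p hp h1 h2 => ?_
    haveI := Fact.mk hp
    classical
    haveI := Fintype.ofFinite (commutator Q)
    obtain ⟨y, hy⟩ := exists_prime_orderOf_dvd_card' p h1
    set σ : Equiv.Perm (commutator Q) := (MulAut.conjNormal (y : Q)).toEquiv with hσ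
    let F : Q →* Equiv.Perm (commutator Q) :=
      { toFun := fun g => (MulAut.conjNormal g).toEquiv
        map_one' := by ext a; simp
        map_mul' := fun g g' => by ext a; simp [mul_assoc] }
    have hpow : σ ^ p ^ 1 = 1 := by
      rw [pow_one, show σ = F (y : Q) from rfl, ← map_pow, ← Subgroup.coe_pow, ← hy,
        pow_orderOf_eq_one, Subgroup.coe_one, map_one]
    obtain ⟨b, hb1, hb2⟩ := Equiv.Perm.exists_fixed_point_of_prime'
      (by rwa [← Nat.card_eq_fintype_card]) hpow (a := (1 : commutator Q)) (by simp [hσ])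
    refine hb2 (Subtype.ext (hQ.fixed_eq_one hab
      (hfree y y.2 fun h => hp.ne_one ?_) b.2 ?_))
    · rw [← hy, ← Subgroup.orderOf_coe, h, orderOf_one]
    · have := congrArg Subtype.val hb1
      simp only [hσ, MulEquiv.coe_toEquiv, EquivLike.coe_coe, MulAut.conjNormal_apply] at this
      exact (mul_inv_eq_iff_eq_mul.mp this).symm

/-- When the derived subgroup is not abelian the group is not solvable. -/
theorem not_solvable (hQ : MinNonab Q)
    (hab : ¬ ∀ a ∈ commutator Q, ∀ b ∈ commutator Q, a * b = b * a) :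
    ¬ Group.IsSolvable (commutator Q) := by
  intro hs
  have hne : ⁅commutator Q, commutator Q⁆ ≠ ⊥ := fun h => hab fun a ha b hb =>
    commutatorElement_eq_one_iff_mul_comm.mp
      (Subgroup.mem_bot.mp (h ▸ Subgroup.commutator_mem_commutator ha hb))
  have heq : ⁅commutator Q, commutator Q⁆ = commutator Q :=
    le_antisymm (Subgroup.commutator_le_left _ _) (hQ.le _ inferInstance hne)
  have h1 : ∀ k, derivedSeries (commutator Q) k = ⊤ := fun k => by
    induction k with
    | zero => rfl
    | succ k ih =>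
      rw [derivedSeries_succ, ih]
      apply Subgroup.map_injective (commutator Q).subtype_injective
      rw [Subgroup.map_commutator, ← MonoidHom.range_eq_map, Subgroup.range_subtype, heq]
  obtain ⟨k, hk⟩ := hs.solvable
  rw [h1 k] at hk
  refine hQ.derived_ne_bot ?_
  haveI : Subsingleton (commutator Q) := Subgroup.subsingleton_iff.mp (subsingleton_of_bot_eq_top hk.symm)
  exact (Subgroup.eq_bot_iff_forall _).mpr fun a ha =>
    congrArg Subtype.val (Subsingleton.elim (⟨a, ha⟩ : commutator Q) 1)

end MinNonab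

end Cfsg.Agent.Block.AbIndex
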