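import Cfsg.Agent.Lib.Block.AbIndex.Shape
import Cfsg.Agent.S0144

/-!
A subgroup of small index with smaller degrees; abelian subgroups of bounded index.
-/

set_option autoImplicit false
set_option linter.unusedSectionVars false
set_option linter.style.haveILetI false

namespace Cfsg.Agent.Block.AbIndex

open scoped ComplexConjugate commutatorElement Nat
open Cfsg Cfsg.Agent.Char

universe u

variable {G : Type u} [Group G] [Finite G]

theorem two_mul_le (N : Subgroup G) [N.Normal] {n f : ℕ} (hb : Bound G n)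
    {β : G ⧸ N → ℂ} (hβ : IsIrrCharacter (G ⧸ N) β) (hf : β 1 = f) (hf2 : 2 ≤ f) :
    Bound N (n / 2) := by
  classical
  haveI := Fintype.ofFinite G
  haveI := Fintype.ofFinite N
  intro θ' hθ' d hd
  by_contra hlt
  obtain ⟨χ, hχ, hne⟩ := exists_over N hθ'
  obtain ⟨m, hm0, hm⟩ := IsIrr.one_eq_pos hχ
  have hmn := hb χ hχ m hm
  obtain ⟨e, he⟩ := IsChar.classInner_nat (IsChar.res (IsIrr.isCharacter hχ) N)
    (IsIrr.isCharacter hθ')
  have hdeg := clifford_one N hχ hθ' hne
  rw [hm, he, hd] at hdeg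
  set s := (inertia N θ').index with hs
  have hd' : m = e * s * d := by exact_mod_cast hdeg
  have hes : e * s = 1 := by
    have : 0 < e * s := Nat.pos_of_ne_zero fun h => by rw [h, zero_mul] at hd'; omega
    by_contra h
    have h2 : 2 * d ≤ e * s * d := Nat.mul_le_mul_right d (by omega)
    omega
  rw [hes, one_mul] at hd'
  subst hd'
  have hres : (fun x : N => χ x) = θ' :=
    eq_of_constituent_degree (IsChar.res (IsIrr.isCharacter hχ) N) hθ' hne
      (by rw [hd]; simpa using hm)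
  have hβ' : IsIrrCharacter G (fun g => β (QuotientGroup.mk' N g)) :=
    IsIrr.comp_surjective _ (QuotientGroup.mk'_surjective N) hβ
  have hprod := mul_irr N hχ hβ' (hres.symm ▸ hθ') fun k hk g => by
    simp only [map_mul, QuotientGroup.mk'_apply, (QuotientGroup.eq_one_iff k).mpr hk, one_mul]
  have h3 := hb _ hprod (m * f) (by
    rw [Pi.mul_apply, hm, map_one, hf, Nat.cast_mul])
  have : m * 2 ≤ m * f := Nat.mul_le_mul_left m hf2
  omega

theorem relIndex_comap (N : Subgroup G) [N.Normal] (X : Subgroup (G ⧸ N)) :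
    N.relIndex (X.comap (QuotientGroup.mk' N)) = Nat.card X := by
  have hle : N ≤ X.comap (QuotientGroup.mk' N) := fun x hx => by
    rw [Subgroup.mem_comap, QuotientGroup.mk'_apply, (QuotientGroup.eq_one_iff x).mpr hx]
    exact one_mem X
  have h1 := Subgroup.relIndex_mul_index hle
  rw [Subgroup.index_comap_of_surjective _ (QuotientGroup.mk'_surjective N),
    Subgroup.index_eq_card N, ← X.card_mul_index] at h1
  exact Nat.eq_of_mul_eq_mul_right (Nat.pos_of_ne_zero X.index_ne_zero_of_finite) h1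

/-- Either the preimage has smaller degrees or its order modulo the core is a divisor of `n ^ 2`. -/
theorem sub_or_dvd (N : Subgroup G) [N.Normal] {n : ℕ} (hb : Bound G n) (X : Subgroup (G ⧸ N))
    (hX : X.normalCore = ⊥) :
    Bound (X.comap (QuotientGroup.mk' N)) (n - 1) ∨ Nat.card X ∣ n ^ 2 := by
  rcases Bound.pred_or (hb.sub (X.comap (QuotientGroup.mk' N))) with h | ⟨ψ, hψ, hn⟩
  · exact .inl h
  refine .inr ?_
  rw [← relIndex_comap]
  refine relIndex_dvd_sq _ N hψ hn fun h hh => vanish_off_core hb _ hψ hn h fun hc => hh ?_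
  refine (QuotientGroup.eq_one_iff (h : G)).mp (Subgroup.mem_bot.mp (hX ▸ fun b => ?_))
  obtain ⟨b, rfl⟩ := QuotientGroup.mk_surjective b
  exact Subgroup.mem_comap.mp (hc b)

theorem top_case (N : Subgroup G) [N.Normal] {n : ℕ} (hb : Bound G n)
    (hQ : MinNonab (G ⧸ N)) (hA : ¬ commutator (G ⧸ N) ≤ Subgroup.center (G ⧸ N))
    (hab : ∀ a ∈ commutator (G ⧸ N), ∀ b ∈ commutator (G ⧸ N), a * b = b * a) :
    Bound ((commutator (G ⧸ N)).comap (QuotientGroup.mk' N)) (n - 1) ∨
      Nat.card (commutator (G ⧸ N)) ∣ n ^ 2 := by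
  classical
  set M := commutator (G ⧸ N) with hM
  set K := M.comap (QuotientGroup.mk' N) with hK
  rcases Bound.pred_or (hb.sub K) with h | ⟨ψ, hψ, hn⟩
  · exact .inl h
  refine .inr ?_
  rw [← relIndex_comap]
  refine relIndex_dvd_sq _ N hψ hn fun k hk => by_contra fun hk0 => hk ?_
  haveI : K.Normal := by rw [hK]; infer_instance
  obtain ⟨χ, hχ, -, hχr⟩ := exists_ext hb K hψ hn
  refine (QuotientGroup.eq_one_iff (k : G)).mp (Subgroup.mem_bot.mp ?_)
  rw [← hQ.center_eq_bot hA, Subgroup.mem_center_iff]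
  intro g'
  obtain ⟨g, rfl⟩ := QuotientGroup.mk_surjective g'
  set j : K := ⟨g * k * g⁻¹, Subgroup.Normal.conj_mem inferInstance _ k.2 g⟩ with hj
  set π : K →* M := ((QuotientGroup.mk' N).comp K.subtype).codRestrict M fun x => x.2 with hπ
  have hjk : ∀ χ : G → ℂ, IsIrrCharacter G χ → χ (j : G) = χ (k : G) := fun χ h =>
    IsClass.eq_of_isConj (IsIrr.classFun h) (isConj_iff.mpr ⟨g⁻¹, by simp [hj, mul_assoc]⟩)
  have hψj : ψ j = ψ k := by rw [← hχr j, ← hχr k]; exact hjk χ hχ
  haveI : IsMulCommutative M := ⟨⟨fun a b => Subtype.ext (hab a a.2 b b.2)⟩⟩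
  have hone : π j * (π k)⁻¹ = 1 := by
    refine eq_one_of_forall_linear (fun a b => Subtype.ext (hab a a.2 b b.2)) fun l => ?_
    have hψ' := IsIrr.mul_linear hψ (l.comp π)
    obtain ⟨χ', hχ', -, hχ'r⟩ := exists_ext hb K hψ' (by simpa using hn)
    have := hjk χ' hχ'
    rw [hχ'r j, hχ'r k, hψj] at this
    have h2 : l (π j) = l (π k) := Units.ext (mul_right_cancel₀ hk0 this)
    rw [map_mul, map_inv, h2, mul_inv_cancel]
  have := congrArg Subtype.val (mul_inv_eq_one.mp hone)
  simp only [hπ, hj, MonoidHom.codRestrict_apply, MonoidHom.coe_comp, Function.comp_apply,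
    Subgroup.coe_subtype, QuotientGroup.mk'_apply, QuotientGroup.mk_mul, QuotientGroup.mk_inv] at this
  exact mul_inv_eq_iff_eq_mul.mp this

theorem central_case (N : Subgroup G) [N.Normal] {n : ℕ} (hb : Bound G n)
    (hQ : MinNonab (G ⧸ N)) (hA : commutator (G ⧸ N) ≤ Subgroup.center (G ⧸ N)) :
    Bound ((Subgroup.center (G ⧸ N)).comap (QuotientGroup.mk' N)) (n - 1) ∧
      (Subgroup.center (G ⧸ N)).index ≤ n ^ 2 := by
  classical
  haveI := Fintype.ofFinite G
  haveI := Fintype.ofFinite (G ⧸ N)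
  obtain ⟨β, hβ, f, hf2, hf, hfaith⟩ := hQ.exists_faithful
  have hβ' : IsIrrCharacter G (fun g => β (QuotientGroup.mk' N g)) :=
    IsIrr.comp_surjective _ (QuotientGroup.mk'_surjective N) hβ
  have hfn : f ≤ n := hb _ hβ' f (by rw [map_one, hf])
  have hscal : ∀ z ∈ Subgroup.center (G ⧸ N), ∀ q, β (z * q) * conj (β (z * q)) = β q * conj (β q) := by
    intro z hz q
    obtain ⟨c, hc1, hc⟩ := IsIrr.scalar_of_center hβ hz
    have : c * conj c = 1 := by
      rw [Complex.mul_conj, Complex.normSq_eq_norm_sq, hc1]; simp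
    rw [hc, map_mul, mul_mul_mul_comm, this, one_mul]
  have hv : ∀ x, x ∉ Subgroup.center (G ⧸ N) → β x = 0 := by
    intro x hx
    obtain ⟨g, hg⟩ : ∃ g, g * x ≠ x * g := by
      simpa only [Subgroup.mem_center_iff, not_forall] using hx
    have hm : ⁅g, x⁆ ∈ commutator (G ⧸ N) :=
      Subgroup.commutator_mem_commutator (Subgroup.mem_top _) (Subgroup.mem_top _)
    obtain ⟨c, -, hc⟩ := IsIrr.scalar_of_center hβ (hA hm)
    have h1 : β (g * x * g⁻¹) = c * β x := by
      rw [← hc, commutatorElement_def]; group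
    rw [IsClass.eq_of_isConj (IsIrr.classFun hβ) (b := x) (isConj_iff.mpr ⟨g⁻¹, by group⟩)] at h1
    by_contra h0
    have hc1 : c = 1 := (mul_eq_right₀ h0).mp h1.symm
    refine hg (commutatorElement_eq_one_iff_mul_comm.mp (hfaith _ ?_))
    simpa [hc1] using hc 1
  set Z := Subgroup.center (G ⧸ N) with hZ
  refine ⟨?_, ?_⟩
  · rcases Bound.pred_or (hb.sub (Z.comap (QuotientGroup.mk' N))) with h | ⟨ψ, hψ, hn⟩
    · exact h
    exfalso
    obtain ⟨χ, hχ, hχn, hχr⟩ := exists_ext hb _ hψ hn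
    have hprod := mul_irr (Z.comap (QuotientGroup.mk' N)) hχ hβ'
      ((funext hχr : (fun h : ↥(Z.comap (QuotientGroup.mk' N)) => χ h) = ψ).symm ▸ hψ) fun k hk g => by
      simp only [map_mul]
      exact hscal _ hk _
    have h := hb _ hprod (n * f) (by rw [Pi.mul_apply, hχn, map_one, hf, Nat.cast_mul])
    have hn0 : n ≠ 0 := fun h0 => IsIrr.one_ne_zero hψ (by rw [hn, h0, Nat.cast_zero])
    have : n * 2 ≤ n * f := Nat.mul_le_mul_left n hf2
    omega
  · have h1 := classInner_self_irr hβ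
    simp only [classInner] at h1
    have h2 : ∑ g : G ⧸ N, β g * conj (β g) = (Nat.card Z : ℂ) * ((f : ℂ) ^ 2) := by
      rw [← Finset.sum_subset (Finset.subset_univ (Finset.univ.filter fun g => g ∈ Z))
        fun g _ hg => by rw [hv g (by simpa using hg), zero_mul]]
      rw [Finset.sum_congr rfl fun g hg => (by
        have := hscal g (Finset.mem_filter.mp hg).2 1
        rw [mul_one, hf, Complex.conj_natCast] at this
        rw [this, sq] : β g * conj (β g) = (f : ℂ) ^ 2), Finset.sum_const, nsmul_eq_mul,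
        Nat.card_eq_fintype_card, Fintype.card_subtype]
    rw [h2, ← mul_assoc] at h1
    have e : (Nat.card Z : ℂ) * (f : ℂ) ^ 2 = (Nat.card (G ⧸ N) : ℂ) := by
      have h0 : (Nat.card (G ⧸ N) : ℂ) ≠ 0 := Nat.cast_ne_zero.mpr Nat.card_pos.ne'
      field_simp at h1
      linear_combination h1
    have e' : Nat.card Z * f ^ 2 = Nat.card (G ⧸ N) := by exact_mod_cast e
    rw [← Z.card_mul_index] at e'
    rw [← Nat.eq_of_mul_eq_mul_left Nat.card_pos e']
    exact Nat.pow_le_pow_left hfn 2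

/-- The complement is no larger than a faithful degree. -/
theorem index_derived_le {Q : Type u} [Group Q] [Finite Q] (hQ : MinNonab Q)
    (hab : ∀ a ∈ commutator Q, ∀ b ∈ commutator Q, a * b = b * a)
    (hCM : Subgroup.centralizer (commutator Q : Set Q) ≤ commutator Q)
    {β : Q → ℂ} (hβ : IsIrrCharacter Q β) {f : ℕ} (hf : β 1 = f)
    (hfaith : ∀ x : Q, β x = β 1 → x = 1) : (commutator Q).index ≤ f := by
  classical
  set M := commutator Q with hM
  haveI := Fintype.ofFinite Q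
  haveI := Fintype.ofFinite M
  obtain ⟨θ, hθ⟩ := IsChar.exists_constituent' (IsChar.res (IsIrr.isCharacter hβ) M)
    (by simpa [hf] using fun h0 : f = 0 => IsIrr.one_ne_zero hβ (by rw [hf, h0, Nat.cast_zero]))
  have hθ1 : (θ : M → ℂ) ≠ fun _ => 1 := fun h1 => by
    obtain ⟨a, ha, hne⟩ := M.bot_or_exists_ne_one.resolve_left hQ.derived_ne_bot
    refine hne (hfaith a ?_)
    have hcl := clifford M hβ θ.2 hθ
    have hval : ∀ m : M, β m = classInner (fun m : M => β m) (θ : M → ℂ) *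
        ((conjOrbit M (θ : M → ℂ)).card : ℂ) := fun m => by
      have := congrFun hcl m
      simp only [Pi.smul_apply, Finset.sum_apply, smul_eq_mul] at this
      rw [this, Finset.sum_congr rfl fun ψ hψ => (show ψ m = (1 : ℂ) by
        obtain ⟨g, rfl⟩ := (mem_conjOrbit M).mp hψ
        rw [conjN_apply, h1]), Finset.sum_const, nsmul_eq_mul, mul_one]
    exact (hval ⟨a, ha⟩).trans (hval 1).symm
  have hI := inertia_eq_of_fpf M (fun m hm hm1 z hz => hCM (by_contra fun hzC => hm1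
    (hQ.fixed_eq_one hab hzC hm (Subgroup.mem_centralizer_singleton_iff.mp hz).symm))) θ.2 hθ1
  have hdeg := clifford_one M hβ θ.2 hθ
  obtain ⟨e, he⟩ := IsChar.classInner_nat (IsChar.res (IsIrr.isCharacter hβ) M)
    (IsIrr.isCharacter θ.2)
  obtain ⟨t, ht0, ht⟩ := IsIrr.one_eq_pos θ.2
  rw [hI, hf, he, ht] at hdeg
  have hd : f = e * M.index * t := by exact_mod_cast hdeg
  have he0 : 0 < e := Nat.pos_of_ne_zero fun h => hθ (by rw [he, h, Nat.cast_zero])
  rw [hd, mul_comm e, mul_assoc]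
  exact Nat.le_mul_of_pos_right _ (Nat.mul_pos he0 ht0)

theorem two_prime_false {Q : Type u} [Group Q] [Finite Q] (hQ : ¬ Group.IsSolvable Q) {p q a b : ℕ}
    (hp : p.Prime) (hq : q.Prime) (h : Nat.card Q = p ^ a * q ^ b) : False :=
  hQ (Cfsg.Agent.S0144.result p q a b hp hq h)

theorem fact_ineq {n : ℕ} (hn : 5 ≤ n) : n ^ 4 * ((n / 2)!) ^ 2 ≤ (n !) ^ 2 := by
  obtain ⟨k, rfl⟩ : ∃ k, n = k + 3 := ⟨n - 3, by omega⟩
  have h1 : ((k + 3) / 2)! ≤ k ! := Nat.factorial_le (by omega)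
  have h2 : (k + 3) ^ 2 ≤ (k + 3) * (k + 2) * (k + 1) := by
    have : k + 3 ≤ (k + 2) * (k + 1) := by nlinarith
    nlinarith
  have h3 : (k + 3)! = (k + 3) * (k + 2) * (k + 1) * k ! := by
    simp [Nat.factorial_succ]; ring
  rw [show (k + 3) ^ 4 * (((k + 3) / 2)!) ^ 2 = ((k + 3) ^ 2 * ((k + 3) / 2)!) ^ 2 by ring]
  refine Nat.pow_le_pow_left ?_ 2
  rw [h3]
  exact Nat.mul_le_mul h2 h1

theorem pred_fact {n i : ℕ} (hn : 2 ≤ n) (hi : i ≤ n ^ 2) : i * ((n - 1)!) ^ 2 ≤ (n !) ^ 2 := by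
  obtain ⟨k, rfl⟩ : ∃ k, n = k + 1 := ⟨n - 1, by omega⟩
  rw [Nat.factorial_succ, mul_pow, Nat.add_sub_cancel]
  exact Nat.mul_le_mul_right _ hi

/-- The non-solvable quotient. -/
theorem nonsolvable_case (N : Subgroup G) [N.Normal] {n : ℕ} (h2n : 2 ≤ n) (hb : Bound G n)
    (hbN : Bound N (n / 2)) (hQ : MinNonab (G ⧸ N))
    (hab : ¬ ∀ a ∈ commutator (G ⧸ N), ∀ b ∈ commutator (G ⧸ N), a * b = b * a) :
    ∃ (H : Subgroup G) (m : ℕ), m < n ∧ Bound H m ∧ H.index * (m !) ^ 2 ≤ (n !) ^ 2 := by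
  classical
  have hns := hQ.not_solvable hab
  have hQns : ¬ Group.IsSolvable (G ⧸ N) := fun h => by
    haveI := h
    exact hns inferInstance
  have hA : ¬ commutator (G ⧸ N) ≤ Subgroup.center (G ⧸ N) := fun h =>
    hab fun a ha b _ => (Subgroup.mem_center_iff.mp (h ha) b).symm
  have hcore : ∀ L : Subgroup (G ⧸ N), Group.IsSolvable L → L.normalCore = ⊥ := fun L hL => by
    by_contra h
    have hle := (hQ.le _ L.normalCore_normal h).trans (Subgroup.normalCore_le L)
    haveI := hL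
    exact hns (Group.isSolvable_of_isSolvable_injective (f := Subgroup.inclusion hle)
      (Subgroup.inclusion_injective hle))
  have hcomap : ∀ X : Subgroup (G ⧸ N), (X.comap (QuotientGroup.mk' N)).index = X.index :=
    fun X => Subgroup.index_comap_of_surjective _ (QuotientGroup.mk'_surjective N)
  haveI : Nontrivial (G ⧸ N) := by
    by_contra h
    rw [not_nontrivial_iff_subsingleton] at h
    exact hQ.nc fun a b => Subsingleton.elim _ _
  have hbQ : Bound (G ⧸ N) n := fun χ hχ d hd =>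
    hb _ (IsIrr.comp_surjective _ (QuotientGroup.mk'_surjective N) hχ) d (by rw [map_one, hd])
  obtain ⟨x, hx1, hxi⟩ := exists_small_class hbQ
  set X := Subgroup.centralizer ({x} : Set (G ⧸ N)) with hX
  have hXcore : X.normalCore = ⊥ := by
    by_contra h
    have hle := (hQ.le _ X.normalCore_normal h).trans (Subgroup.normalCore_le X)
    have hxC : x ∈ Subgroup.centralizer (commutator (G ⧸ N) : Set (G ⧸ N)) :=
      Subgroup.mem_centralizer_iff.mpr fun a ha =>
        Subgroup.mem_centralizer_singleton_iff.mp (hle ha)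
    have hC := hQ.le (Subgroup.centralizer (commutator (G ⧸ N) : Set (G ⧸ N))) inferInstance
      fun h => hx1 (Subgroup.mem_bot.mp (h ▸ hxC))
    exact hab fun a ha b hb => (Subgroup.mem_centralizer_iff.mp (hC ha) b hb).symm
  rcases sub_or_dvd N hb X hXcore with h | hdvd
  · exact ⟨_, n - 1, by omega, h, pred_fact h2n (by rw [hcomap]; exact hxi)⟩
  have hcard := X.card_mul_index
  have hXle : Nat.card X ≤ n ^ 2 := Nat.le_of_dvd (by positivity) hdvd
  have hNi : N.index = Nat.card (G ⧸ N) := N.index_eq_card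
  have hc1 : 1 ≤ X.index := Nat.pos_of_ne_zero X.index_ne_zero_of_finite
  rcases Nat.lt_or_ge n 5 with h5 | h5
  swap
  · refine ⟨N, n / 2, by omega, hbN, (Nat.mul_le_mul_right _ ?_).trans (fact_ineq h5)⟩
    rw [hNi, ← hcard, show n ^ 4 = n ^ 2 * n ^ 2 by ring]
    exact Nat.mul_le_mul hXle hxi
  obtain ⟨k, -, hk⟩ : ∃ k, k ≤ n ^ 2 ∧ Nat.card X = k := ⟨_, hXle, rfl⟩
  rw [hk] at hdvd hcard hXle
  interval_cases n
  · -- degree two
    exfalso
    have hi : X.index ≤ 4 := hxi
    have hk4 : k ∈ ({1, 2, 4} : Finset ℕ) := by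
      have := Nat.mem_divisors.mpr ⟨hdvd, by norm_num⟩
      exact (by decide : ∀ k ∈ Nat.divisors (2 ^ 2), k ∈ ({1, 2, 4} : Finset ℕ)) k this
    have : ∃ a b, Nat.card (G ⧸ N) = 2 ^ a * 3 ^ b := by
      rw [← hcard]
      simp only [Finset.mem_insert, Finset.mem_singleton] at hk4
      interval_cases X.index <;> rcases hk4 with rfl | rfl | rfl
      all_goals first
        | exact ⟨0, 0, rfl⟩ | exact ⟨1, 0, rfl⟩ | exact ⟨2, 0, rfl⟩ | exact ⟨3, 0, rfl⟩
        | exact ⟨4, 0, rfl⟩ | exact ⟨0, 1, rfl⟩ | exact ⟨1, 1, rfl⟩ | exact ⟨2, 1, rfl⟩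
    obtain ⟨a, b, h⟩ := this
    exact two_prime_false hQns Nat.prime_two Nat.prime_three h
  · -- degree three
    exfalso
    have hi : X.index ≤ 9 := hxi
    obtain ⟨j, -, rfl⟩ := (Nat.dvd_prime_pow Nat.prime_three).mp hdvd
    obtain ⟨p, hp, a, b, h⟩ : ∃ p : ℕ, p.Prime ∧ ∃ a b, X.index = p ^ a * 3 ^ b := by
      interval_cases X.index
      exacts [⟨2, Nat.prime_two, 0, 0, rfl⟩, ⟨2, Nat.prime_two, 1, 0, rfl⟩,
        ⟨2, Nat.prime_two, 0, 1, rfl⟩, ⟨2, Nat.prime_two, 2, 0, rfl⟩,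
        ⟨5, by norm_num, 1, 0, rfl⟩, ⟨2, Nat.prime_two, 1, 1, rfl⟩,
        ⟨7, by norm_num, 1, 0, rfl⟩, ⟨2, Nat.prime_two, 3, 0, rfl⟩,
        ⟨2, Nat.prime_two, 0, 2, rfl⟩]
    exact two_prime_false hQns hp Nat.prime_three (a := a) (b := b + j) (by
      rw [← hcard, h, pow_add]; ring)
  · -- degree four
    have hi : X.index ≤ 16 := hxi
    by_cases hsmall : Nat.card (G ⧸ N) ≤ 144
    · refine ⟨N, 2, by norm_num, hbN, ?_⟩
      rw [hNi]
      norm_num [Nat.factorial]
      omega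
    obtain ⟨j, hj, rfl⟩ := (Nat.dvd_prime_pow Nat.prime_two).mp
      (hdvd.trans (by norm_num : (4 : ℕ) ^ 2 ∣ 2 ^ 4))
    have hj4 : j = 4 := by
      by_contra hne
      have : 2 ^ j ≤ 2 ^ 3 := Nat.pow_le_pow_right (by norm_num) (by omega)
      exact hsmall (by rw [← hcard]; calc 2 ^ j * X.index ≤ 2 ^ 3 * 16 := Nat.mul_le_mul this hi
        _ ≤ 144 := by norm_num)
    subst hj4
    by_cases h15 : X.index = 15
    swap
    · exfalso
      obtain ⟨p, hp, a, b, h⟩ : ∃ p : ℕ, p.Prime ∧ ∃ a b, X.index = p ^ a * 2 ^ b := by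
        interval_cases X.index
        all_goals first
          | exact absurd rfl h15
          | exact ⟨3, by norm_num, 0, 0, rfl⟩ | exact ⟨3, by norm_num, 0, 1, rfl⟩
          | exact ⟨3, by norm_num, 1, 0, rfl⟩ | exact ⟨3, by norm_num, 0, 2, rfl⟩
          | exact ⟨5, by norm_num, 1, 0, rfl⟩ | exact ⟨3, by norm_num, 1, 1, rfl⟩
          | exact ⟨7, by norm_num, 1, 0, rfl⟩ | exact ⟨3, by norm_num, 0, 3, rfl⟩
          | exact ⟨3, by norm_num, 2, 0, rfl⟩ | exact ⟨5, by norm_num, 1, 1, rfl⟩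
          | exact ⟨11, by norm_num, 1, 0, rfl⟩ | exact ⟨3, by norm_num, 1, 2, rfl⟩
          | exact ⟨13, by norm_num, 1, 0, rfl⟩ | exact ⟨7, by norm_num, 1, 1, rfl⟩
          | exact ⟨3, by norm_num, 0, 4, rfl⟩
      exact two_prime_false hQns hp Nat.prime_two (a := a) (b := b + 4) (by
        rw [← hcard, h, pow_add]; ring)
    -- order 240: the normaliser of a Sylow 5-subgroup
    have h240 : Nat.card (G ⧸ N) = 240 := by rw [← hcard, h15]; norm_num
    haveI : Fact (Nat.Prime 5) := ⟨by norm_num⟩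
    obtain ⟨P⟩ : Nonempty (Sylow 5 (G ⧸ N)) := inferInstance
    have hP : Nat.card (P : Subgroup (G ⧸ N)) = 5 := by
      rw [Sylow.card_eq_multiplicity, h240]
      have : (240 : ℕ).factorization 5 = 1 := by
        rw [show (240 : ℕ) = 5 ^ 1 * 48 by norm_num,
          Nat.factorization_mul (by norm_num) (by norm_num), Finsupp.add_apply,
          Nat.Prime.factorization_pow (by norm_num), Finsupp.single_eq_same,
          Nat.factorization_eq_zero_of_not_dvd (by norm_num)]
      rw [this]; norm_num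
    have hcnt : Nat.card (Sylow 5 (G ⧸ N)) ∣ 48 := by
      have := P.card_dvd_index
      rwa [show (P : Subgroup (G ⧸ N)).index = 48 by
        have := (P : Subgroup (G ⧸ N)).card_mul_index
        rw [hP, h240] at this
        omega] at this
    set L := Subgroup.normalizer ((P : Subgroup (G ⧸ N)) : Set (G ⧸ N)) with hL
    have hLi : L.index = Nat.card (Sylow 5 (G ⧸ N)) := P.card_eq_index_normalizer.symm
    have hmod : L.index ≡ 1 [MOD 5] := hLi ▸ card_sylow_modEq_one 5 (G ⧸ N)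
    have hL' : L.index = 1 ∨ L.index = 6 ∨ L.index = 16 := by
      have hd := Nat.mem_divisors.mpr ⟨hLi ▸ hcnt, (by norm_num : 48 ≠ 0)⟩
      exact (by decide : ∀ i ∈ Nat.divisors 48, i % 5 = 1 % 5 → i = 1 ∨ i = 6 ∨ i = 16)
        _ hd hmod
    have hLne : L.index ≠ 1 := fun h => by
      have hPn : (P : Subgroup (G ⧸ N)).Normal :=
        Subgroup.normalizer_eq_top_iff.mp (Subgroup.index_eq_one.mp h)
      have hPs : Group.IsSolvable (P : Subgroup (G ⧸ N)) := by
        haveI := P.isPGroup'.isNilpotent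
        infer_instance
      haveI := hPn
      have hP1 := hcore _ hPs
      rw [Subgroup.normalCore_eq_self] at hP1
      rw [hP1, Subgroup.card_bot] at hP
      norm_num at hP
    have hLc : ∃ p q a b : ℕ, p.Prime ∧ q.Prime ∧ Nat.card L = p ^ a * q ^ b := by
      have := L.card_mul_index
      rw [h240] at this
      rcases hL' with h | h | h
      · exact absurd h hLne
      · exact ⟨2, 5, 3, 1, Nat.prime_two, by norm_num, by rw [h] at this; omega⟩
      · exact ⟨3, 5, 1, 1, by norm_num, by norm_num, by rw [h] at this; omega⟩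
    obtain ⟨p, q, a, b, hp, hq, hLpq⟩ := hLc
    rcases sub_or_dvd N hb L (hcore L (Cfsg.Agent.S0144.result p q a b hp hq hLpq)) with h | hd
    · refine ⟨_, 3, by norm_num, h, pred_fact (n := 4) (by norm_num) ?_⟩
      rw [hcomap]
      rcases hL' with h | h | h <;> omega
    · exfalso
      have h5L : 5 ∣ Nat.card L := hP ▸ Subgroup.card_dvd_of_le Subgroup.le_normalizer
      exact absurd (h5L.trans hd) (by norm_num)

theorem exists_step {n : ℕ} (h2n : 2 ≤ n) (hb : Bound G n) (hG : ¬ ∀ a b : G, a * b = b * a) :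
    ∃ (H : Subgroup G) (m : ℕ), m < n ∧ Bound H m ∧ H.index * (m !) ^ 2 ≤ (n !) ^ 2 := by
  obtain ⟨N, hN, hQ⟩ := exists_minNonab hG
  haveI := hN
  obtain ⟨β, hβ, f, hf2, hf, -⟩ := hQ.exists_faithful
  have hbN := two_mul_le N hb hβ hf hf2
  have hcomap : ∀ X : Subgroup (G ⧸ N), (X.comap (QuotientGroup.mk' N)).index = X.index :=
    fun X => Subgroup.index_comap_of_surjective _ (QuotientGroup.mk'_surjective N)
  by_cases hA : commutator (G ⧸ N) ≤ Subgroup.center (G ⧸ N)
  · obtain ⟨h1, h2⟩ := central_case N hb hQ hA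
    exact ⟨_, n - 1, by omega, h1, pred_fact h2n (by rw [hcomap]; exact h2)⟩
  by_cases hab : ∀ a ∈ commutator (G ⧸ N), ∀ b ∈ commutator (G ⧸ N), a * b = b * a
  swap
  · exact nonsolvable_case N h2n hb hbN hQ hab
  obtain ⟨X, hXc, hXi, hco, hCM⟩ := hQ.exists_complement hA hab
  have hcard := X.card_mul_index
  have hMK := (commutator (G ⧸ N)).card_mul_index
  rw [hXi] at hcard
  have hKi : (commutator (G ⧸ N)).index = Nat.card X :=
    Nat.eq_of_mul_eq_mul_left Nat.card_pos (hMK.trans (hcard.symm.trans (mul_comm _ _)))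
  have hn2 : 0 < n ^ 2 := by positivity
  rcases sub_or_dvd N hb X hXc with h | hXd
  · rcases top_case N hb hQ hA hab with h' | hMd
    · by_cases hle : Nat.card (commutator (G ⧸ N)) ≤ n ^ 2
      · exact ⟨_, n - 1, by omega, h, pred_fact h2n (by rw [hcomap, hXi]; exact hle)⟩
      · refine ⟨_, n - 1, by omega, h', pred_fact h2n ?_⟩
        rw [hcomap]
        obtain ⟨β, hβ, f, -, hf, hfaith⟩ := hQ.exists_faithful
        exact (index_derived_le hQ hab hCM hβ hf hfaith).trans
          (le_trans (hb _ (IsIrr.comp_surjective _ (QuotientGroup.mk'_surjective N) hβ) f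
            (by rw [map_one, hf])) (Nat.le_self_pow (by norm_num) n))
    · exact ⟨_, n - 1, by omega, h, pred_fact h2n (by rw [hcomap, hXi]; exact Nat.le_of_dvd hn2 hMd)⟩
  · rcases top_case N hb hQ hA hab with h | hMd
    · exact ⟨_, n - 1, by omega, h, pred_fact h2n (by rw [hcomap, hKi]; exact Nat.le_of_dvd hn2 hXd)⟩
    · refine ⟨N, n - 1, by omega, fun χ hχ d hd => (hbN χ hχ d hd).trans (by omega), pred_fact h2n ?_⟩
      rw [N.index_eq_card, ← hcard]
      exact Nat.le_of_dvd hn2 (hco.mul_dvd_of_dvd_of_dvd hXd hMd)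

theorem exists_abelian_le : ∀ (n : ℕ) (G : Type u) [Group G] [Finite G], Bound G n →
    ∃ A : Subgroup G, (∀ x ∈ A, ∀ y ∈ A, x * y = y * x) ∧ A.index ≤ (n !) ^ 2 := by
  intro n
  induction n using Nat.strong_induction_on with
  | _ n ih =>
    intro G _ _ hb
    by_cases hG : ∀ a b : G, a * b = b * a
    · exact ⟨⊤, fun x _ y _ => hG x y, by rw [Subgroup.index_top]; exact Nat.one_le_pow _ _ n.factorial_pos⟩
    have h2n : 2 ≤ n := by
      by_contra h
      exact hG (comm_of_bound_one fun χ hχ d hd => (hb χ hχ d hd).trans (by omega))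
    obtain ⟨H, m, hm, hH, hle⟩ := exists_step h2n hb hG
    obtain ⟨A, hA, hAi⟩ := ih m hm H hH
    refine ⟨A.map H.subtype, ?_, ?_⟩
    · rintro x ⟨a, ha, rfl⟩ y ⟨b, hb, rfl⟩
      exact congrArg Subtype.val (hA a ha b hb)
    · rw [Subgroup.index_map_subtype, mul_comm]
      exact (Nat.mul_le_mul_left _ hAi).trans hle

end Cfsg.Agent.Block.AbIndex
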